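import Groth.Agent.H7Lim.SurfaceModel
import Groth.Agent.H12Pic.PicCurve.Good
import Groth.Agent.H8Props.FieldDimFibre
import Groth.Agent.H17.LocusBC
import Groth.Agent.H29CurveFamily.Push
import Groth.Agent.H29GenusZero.Basic
import Groth.Agent.H21Taylor.GeomInt
import Groth.Agent.LeadBC.GenBC.Semicont

/-!
# Noetherian models of families of smooth curves
-/

set_option autoImplicit false
set_option linter.style.haveILetI false
set_option linter.unusedSectionVars false
set_option backward.isDefEq.respectTransparency false
set_option maxHeartbeats 1000000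

universe u

open CategoryTheory Limits AlgebraicGeometry TopologicalSpace Topology

namespace Groth.Agent.H29RelOmega

/-- The points with smooth fibre of a proper flat finitely presented morphism form an open set. -/
theorem isOpen_smooth_fibres {X Y : Scheme.{u}} (f : X ⟶ Y) [IsProper f] [Flat f]
    [LocallyOfFinitePresentation f] : IsOpen {y : Y | Smooth (f.fiberToSpecResidueField y)} := by
  haveI hlfp : ∀ y, LocallyOfFinitePresentation (f.fiberToSpecResidueField y) := fun y =>
    MorphismProperty.pullback_snd f _ inferInstance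
  have key : {y : Y | Smooth (f.fiberToSpecResidueField y)} = (f '' ((f.smoothLocus : Set X))ᶜ)ᶜ := by
    ext y
    refine ⟨?_, fun h => ?_⟩
    · rintro h ⟨x, hx, rfl⟩
      refine hx (H17.LocusBC.mem_smoothLocus_of_flat_of_fiber f x (Flat.stalkMap f x) ?_)
      haveI : Smooth (f.fiberToSpecResidueField (f x)) := h
      rw [Scheme.Hom.smoothLocus_eq_top]
      trivial
    · refine Scheme.Hom.smoothLocus_eq_top_iff.1 (top_le_iff.1 fun z _ => ?_)
      have hz : f.fiberι y z ∈ f.smoothLocus := by
        by_contra hn
        refine h ⟨_, hn, ?_⟩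
        exact (f.range_fiberι y).le ⟨z, rfl⟩
      exact H17.LocusBC.preimage_smoothLocus_le
        (IsPullback.of_hasPullback f (Y.fromSpecResidueField y)) hz
  rw [key, isOpen_compl_iff]
  exact f.isClosedMap _ f.smoothLocus.isOpen.isClosed_compl

section bc

variable {X Y X' Y' : Scheme.{u}} {f : X ⟶ Y} {f' : X' ⟶ Y'} {g' : X' ⟶ X} {g : Y' ⟶ Y}
  (h : IsPullback g' f' f g)

include h in
/-- Smoothness of a fibre descends along field extensions. -/
theorem smooth_fibre_of_baseChange [LocallyOfFinitePresentation f] (y : Y')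
    (hy : Smooth (f'.fiberToSpecResidueField y)) : Smooth (f.fiberToSpecResidueField (g y)) := by
  haveI : LocallyOfFinitePresentation f' := MorphismProperty.of_isPullback h inferInstance
  haveI : LocallyOfFinitePresentation (f.fiberToSpecResidueField (g y)) :=
    MorphismProperty.pullback_snd f _ inferInstance
  haveI : LocallyOfFinitePresentation (f'.fiberToSpecResidueField y) :=
    MorphismProperty.pullback_snd f' _ inferInstance
  have hq := isPullback_fiberToSpecResidueField_of_isPullback h y
  let φ := Spec.map (g.residueFieldMap y)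
  haveI : Flat φ := (HasRingHomProperty.Spec_iff (P := @Flat)).mpr (by
    letI := (g.residueFieldMap y).hom.toAlgebra
    exact RingHom.flat_algebraMap_iff.mpr inferInstance)
  haveI : Surjective φ := ⟨fun z => ⟨IsLocalRing.closedPoint _,
    Subsingleton.elim (α := PrimeSpectrum _) _ _⟩⟩
  refine Scheme.Hom.smoothLocus_eq_top_iff.1 (top_le_iff.1 fun z _ => ?_)
  obtain ⟨w, rfl⟩ := (MorphismProperty.of_isPullback (P := @Surjective) hq.flip inferInstance).surj z
  refine H17.LocusBC.mem_smoothLocus_of_flat_baseChange hq w ?_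
  haveI := hy
  rw [Scheme.Hom.smoothLocus_eq_top]
  trivial

include h in
/-- Geometric integrality of a fibre descends along field extensions. -/
theorem geometricallyIntegral_fibre_of_baseChange (y : Y')
    (hy : GeometricallyIntegral (f'.fiberToSpecResidueField y)) :
    GeometricallyIntegral (f.fiberToSpecResidueField (g y)) := by
  have hq := isPullback_fiberToSpecResidueField_of_isPullback h y
  letI : Algebra (Y.residueField (g y)) (Y'.residueField y) := (g.residueFieldMap y).hom.toAlgebra
  refine (S4627.result (k := Y.residueField (g y)) (K := Y'.residueField y) (f.fiberToSpecResidueField (g y))).2 ?_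
  have hq' : IsPullback _ (FBase.bcStr (k := Y.residueField (g y)) (f.fiberToSpecResidueField (g y)) (Y'.residueField y))
      (f.fiberToSpecResidueField (g y)) (Spec.map (g.residueFieldMap y)) := IsPullback.of_hasPullback _ _
  let e := hq'.isoIsPullback _ _ hq
  have hh : IsPullback e.hom (FBase.bcStr (k := Y.residueField (g y)) (f.fiberToSpecResidueField (g y))
      (Y'.residueField y)) (f'.fiberToSpecResidueField y) (𝟙 _) :=
    IsPullback.of_horiz_isIso ⟨by rw [Category.comp_id]; exact hq'.isoIsPullback_hom_snd _ _ hq⟩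
  refine ⟨fun K _ a Z p q hpb => hy.geometrically_isIntegral a (p ≫ e.hom) q ?_⟩
  have hp := hpb.paste_horiz hh
  rwa [Category.comp_id] at hp

include h in
/-- The fibre ranks of the structure module under base change. -/
theorem fiberRank_structure_bc [IsProper f] [IsProper f'] (p : ℕ) (y : Y') :
    CohIII.fiberRank f' (Coh.structureModule X') p y = CohIII.fiberRank f (Coh.structureModule X) p (g y) := by
  refine Eq.trans ?_ (H12Pic.PicCurve.fiberRank_pullback f H11Ample.isInvertible_structureModule h p y)
  letI : (f'.fiber y).Over (Spec (CommRingCat.of (Y'.residueField y))) := ⟨f'.fiberToSpecResidueField y⟩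
  exact (H29RR.hhIso (k := Y'.residueField y) ((Scheme.Modules.pullback (f'.fiberι y)).mapIso
    (H16Derived.KFlat.Stalk.structurePullbackIso g').symm) p).finrank_eq

end bc

/-- The fibre rank of the structure module in degree one is the genus of the fibre. -/
theorem fiberRank_one_eq_genus {X Y : Scheme.{u}} (f : X ⟶ Y) [IsProper f] (y : Y) :
    letI : (f.fiber y).Over (Spec (Y.residueField y)) := ⟨f.fiberToSpecResidueField y⟩
    CohIII.fiberRank f (Coh.structureModule X) 1 y = Curv2.genus (Y.residueField y) (f.fiber y) := by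
  letI : (f.fiber y).Over (Spec (CommRingCat.of (Y.residueField y))) := ⟨f.fiberToSpecResidueField y⟩
  exact (H29RR.hhIso (k := Y.residueField y) (H16Derived.KFlat.Stalk.structurePullbackIso (f.fiberι y)) 1).finrank_eq

/-- A family of smooth curves over an affine base comes from one over a finitely generated subring. -/
theorem exists_curve_model {R : Type u} [CommRing R] {X : Scheme.{u}} (f : X ⟶ Spec (CommRingCat.of R))
    [IsProper f] [Smooth f] [GeometricallyConnected f]
    (hdim : ∀ s : (Spec (CommRingCat.of R)), topologicalKrullDim ↥(f.fiber s) = 1) :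
    ∃ (A : Subalgebra ℤ R) (X₀ : Scheme.{u}) (f₀ : X₀ ⟶ Spec (CommRingCat.of A)) (v : X ⟶ X₀),
      Algebra.FiniteType ℤ A ∧ IsPullback v f f₀ (Spec.map (CommRingCat.ofHom A.val.toRingHom)) ∧
      IsProper f₀ ∧ Smooth f₀ ∧ GeometricallyConnected f₀ ∧
      (∀ s : (Spec (CommRingCat.of A)), topologicalKrullDim ↥(f₀.fiber s) = 1) ∧
      ∀ g : ℕ, (∀ s : (Spec (CommRingCat.of R)), CohIII.fiberRank f (Coh.structureModule X) 1 s = g) →
        ∀ s : (Spec (CommRingCat.of A)), CohIII.fiberRank f₀ (Coh.structureModule X₀) 1 s = g := by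
  obtain ⟨A, X₀, f₀, v, hA, _, _, _, hsq⟩ := H16Derived.BaseChange.exists_proper_flat_model f
  haveI : IsNoetherianRing A := Algebra.FiniteType.isNoetherianRing ℤ _
  haveI : IsNoetherian (Spec (CommRingCat.of A)) := inferInstance
  let Q : ℕ → Prop := fun g =>
    ∀ s : (Spec (CommRingCat.of R)), CohIII.fiberRank f (Coh.structureModule X) 1 s = g
  let E₀ : Set (PrimeSpectrum A) := {s | GeometricallyIntegral (f₀.fiberToSpecResidueField s)} ∩
    ({s | Smooth (f₀.fiberToSpecResidueField s)} ∩ {s | topologicalKrullDim (f₀.fiber s) = (1 : ℕ)})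
  let E : Set (PrimeSpectrum A) := E₀ ∩
    {s | ∀ g, Q g → CohIII.fiberRank f₀ (Coh.structureModule X₀) 1 s = g}
  haveI : (Coh.structureModule X₀).IsQuasicoherent := H10Coh.isQuasicoherent_unit
  have hopen : ∀ U : Set (PrimeSpectrum A), IsOpen U → IsConstructible U := fun U hU =>
    (show IsRetrocompact U from fun _ _ _ => NoetherianSpace.isCompact _).isConstructible hU
  have hE₀ : IsConstructible E₀ :=
    (hopen _ (S2553.result f₀)).inter ((hopen _ (isOpen_smooth_fibres f₀)).inter
      (H8Props.FibreDimApprox.isConstructible_dim_fiber_eq f₀ 1))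
  have hlevel : ∀ n, IsConstructible {s | CohIII.fiberRank f₀ (Coh.structureModule X₀) 1 s = n} := fun n => by
    have husc := LeadBC.GenBC.upperSemicontinuous_fiberRank f₀ (Coh.structureModule X₀)
      H06EGA9.isFP_structureModule (LeadBC.GenBC.isFlatOver_structure f₀) 1
    have h1 := upperSemicontinuous_iff_isOpen_preimage.1 husc (n + 1)
    have h2 := upperSemicontinuous_iff_isOpen_preimage.1 husc n
    have h : {s | CohIII.fiberRank f₀ (Coh.structureModule X₀) 1 s = n} =
        CohIII.fiberRank f₀ (Coh.structureModule X₀) 1 ⁻¹' Set.Iio (n + 1) \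
          CohIII.fiberRank f₀ (Coh.structureModule X₀) 1 ⁻¹' Set.Iio n := by
      ext s; simp only [Set.mem_ofPred_eq, Set.mem_sdiff, Set.mem_preimage, Set.mem_Iio]; omega
    rw [h]
    exact (hopen _ h1).sdiff (hopen _ h2)
  have hE : IsConstructible E := by
    refine hE₀.inter ?_
    by_cases hQ : ∃ g, Q g
    · obtain ⟨g, hg⟩ := hQ
      by_cases huniq : ∀ g', Q g' → g' = g
      · rw [show {s : PrimeSpectrum A | ∀ g, Q g → CohIII.fiberRank f₀ (Coh.structureModule X₀) 1 s = g} =
          {s | CohIII.fiberRank f₀ (Coh.structureModule X₀) 1 s = g} from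
          Set.ext fun s => ⟨fun h => h g hg, fun h g' hg' => (huniq g' hg').symm ▸ h⟩]
        exact hlevel g
      · push Not at huniq
        obtain ⟨g', hg', hne⟩ := huniq
        rw [show {s : PrimeSpectrum A | ∀ g, Q g → CohIII.fiberRank f₀ (Coh.structureModule X₀) 1 s = g} = ∅ from
          Set.eq_empty_of_forall_notMem fun s h => hne ((h g' hg').symm.trans (h g hg))]
        exact IsConstructible.empty
    · rw [show {s : PrimeSpectrum A | ∀ g, Q g → CohIII.fiberRank f₀ (Coh.structureModule X₀) 1 s = g} = Set.univ from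
        Set.eq_univ_of_forall fun s g hg => absurd ⟨g, hg⟩ hQ]
      exact IsConstructible.univ
  let u := Spec.map (CommRingCat.ofHom A.val.toRingHom)
  have hgood : ∀ p : PrimeSpectrum R, PrimeSpectrum.comap A.val.toRingHom p ∈ E := by
    intro p
    haveI : Smooth (f.fiberToSpecResidueField p) := MorphismProperty.pullback_snd f _ inferInstance
    have hgi : GeometricallyIntegral (f.fiberToSpecResidueField p) :=
      H21Taylor.geometricallyIntegral_of_smooth _ fun t =>
        GeometricallyConnected.geometrically_connectedSpace _ _ _ (.of_hasPullback _ _)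
    refine ⟨⟨geometricallyIntegral_fibre_of_baseChange hsq p hgi,
      smooth_fibre_of_baseChange hsq p inferInstance, ?_⟩, fun g hg => ?_⟩
    · exact ((H8Props.FieldDim.dim_fiber_baseChange f₀ hsq p).symm.trans (hdim p)).trans Nat.cast_one.symm
    · exact (fiberRank_structure_bc hsq 1 p).symm.trans (hg p)
  obtain ⟨A', hle, hA', hgood'⟩ :=
    H7Lim.ConstrStage.exists_fg_le_comap_mem A (A.fg_iff_finiteType.2 hA) hE hgood
  let i : Spec (CommRingCat.of A') ⟶ Spec (CommRingCat.of A) :=
    Spec.map (CommRingCat.ofHom (Subalgebra.inclusion hle).toRingHom)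
  have hsq' : IsPullback (pullback.fst f₀ i) (pullback.snd f₀ i) f₀ i := IsPullback.of_hasPullback _ _
  let v' : X ⟶ pullback f₀ i := pullback.lift v (f ≫ Spec.map (CommRingCat.ofHom A'.val.toRingHom))
    (by rw [Category.assoc, hsq.w, ← Spec.map_comp]; rfl)
  haveI : IsProper (pullback.snd f₀ i) := MorphismProperty.pullback_snd _ _ ‹_›
  haveI : Flat (pullback.snd f₀ i) := MorphismProperty.pullback_snd _ _ ‹_›
  haveI : LocallyOfFinitePresentation (pullback.snd f₀ i) := MorphismProperty.pullback_snd _ _ ‹_›
  haveI hlfp : ∀ s, LocallyOfFinitePresentation ((pullback.snd f₀ i).fiberToSpecResidueField s) := fun s =>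
    MorphismProperty.pullback_snd _ _ inferInstance
  have hfib : ∀ s, GeometricallyIntegral ((pullback.snd f₀ i).fiberToSpecResidueField s) ∧
      Smooth ((pullback.snd f₀ i).fiberToSpecResidueField s) := fun s => by
    obtain ⟨⟨hgi, hsm, -⟩, -⟩ := hgood' s
    have hq := isPullback_fiberToSpecResidueField_of_isPullback hsq' s
    exact ⟨MorphismProperty.of_isPullback hq hgi, MorphismProperty.of_isPullback hq hsm⟩
  refine ⟨A', pullback f₀ i, pullback.snd f₀ i, v', A'.fg_iff_finiteType.1 hA', ?_, inferInstance, ?_, ?_,
    fun s => ?_, fun g hg s => ?_⟩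
  · refine IsPullback.of_right (h₁₂ := pullback.fst f₀ i) (h₂₂ := i) (v₁₃ := f₀) ?_
      (pullback.lift_snd _ _ _) hsq'
    rw [pullback.lift_fst, ← Spec.map_comp]
    exact hsq
  · refine Scheme.Hom.smoothLocus_eq_top_iff.1 (top_le_iff.1 fun x _ => ?_)
    refine H17.LocusBC.mem_smoothLocus_of_flat_of_fiber _ x (Flat.stalkMap _ x) ?_
    haveI := (hfib ((pullback.snd f₀ i) x)).2
    rw [Scheme.Hom.smoothLocus_eq_top]
    trivial
  · refine ⟨geometrically_iff_forall_fiberToSpecResidueField.2 fun s => ?_⟩
    haveI := (hfib s).1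
    exact (H29GenusZero.geometricallyConnected_of_irreducible _).geometrically_connectedSpace
  · exact ((H8Props.FieldDim.dim_fiber_baseChange f₀ hsq' s).trans (hgood' s).1.2.2).trans Nat.cast_one
  · exact (fiberRank_structure_bc hsq' 1 s).trans ((hgood' s).2 g hg)

end Groth.Agent.H29RelOmega
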