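import Groth.Agent.H29CurveFamily.Push
import Groth.Agent.H29CurveDual.CanonAux

/-!
# The module of differentials on the fibres of a family of smooth curves
-/

set_option autoImplicit false
set_option linter.style.haveILetI false
set_option linter.unusedSectionVars false
set_option maxHeartbeats 1000000
set_option backward.isDefEq.respectTransparency.types false
universe u

open CategoryTheory CategoryTheory.Limits AlgebraicGeometry TopologicalSpace Opposite

namespace Groth.Agent.H29RelOmega

attribute [local instance 10000] H10Coh.hasSheafifyAb H10Coh.hasWeakSheafifyAb H10Coh.hasExtAb H10Coh.enoughInjAb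

variable {X S : Scheme.{u}} (f : X ⟶ S) [IsProper f] [Smooth f] [GeometricallyConnected f]
  (hdim : ∀ s : S, topologicalKrullDim ↥(f.fiber s) = 1)

theorem isIntegral_fibre (s : S) : IsIntegral (f.fiber s) := by
  haveI : IsProper (f.fiberToSpecResidueField s) := MorphismProperty.pullback_snd f _ inferInstance
  haveI : Smooth (f.fiberToSpecResidueField s) := MorphismProperty.pullback_snd f _ inferInstance
  haveI : GeometricallyIntegral (f.fiberToSpecResidueField s) :=
    H21Taylor.geometricallyIntegral_of_smooth _ fun t =>
      GeometricallyConnected.geometrically_connectedSpace _ _ _ (.of_hasPullback _ _)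
  exact GeometricallyIntegral.isIntegral_of_subsingleton (f.fiberToSpecResidueField s)

include hdim in
theorem smoothRelDimOne : SmoothOfRelativeDimension 1 f := by
  haveI hfib : ∀ s : S, IsProper (f.fiberToSpecResidueField s) := fun s =>
    MorphismProperty.pullback_snd f _ inferInstance
  haveI hsm : ∀ s : S, Smooth (f.fiberToSpecResidueField s) := fun s =>
    MorphismProperty.pullback_snd f _ inferInstance
  haveI hint : ∀ s : S, IsIntegral (f.fiber s) := isIntegral_fibre f
  exact H12Pic.PicCurve.smoothOfRelativeDimension_of_fibres f 1 (fun s => inferInstance)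
    (fun s => by simpa using hdim s)

include hdim in
/-- Cohomology in degrees above one vanishes on the fibres. -/
theorem subsingleton_fibre (F : X.Modules) (s : S) {i : ℕ} (hi : 2 ≤ i) : Subsingleton (CohIII.fiberH f F s i) := by
  haveI : IsProper (f.fiberToSpecResidueField s) := MorphismProperty.pullback_snd f _ inferInstance
  haveI : IsLocallyNoetherian (f.fiber s) :=
    LocallyOfFiniteType.isLocallyNoetherian (f.fiberToSpecResidueField s)
  haveI : CompactSpace (f.fiber s) := QuasiCompact.compactSpace_of_compactSpace (f.fiberToSpecResidueField s)
  haveI : IsNoetherian (f.fiber s) := ⟨⟩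
  haveI : TopologicalSpace.NoetherianSpace ↥(f.fiber s).toPresheafedSpace := inferInstance
  exact LeadVan.subsingleton_H_of_dim_le (X := (f.fiber s).toPresheafedSpace.carrier) 1 (hdim s).le
    (Coh.toAb (CohIII.fiberMod f F s)) i hi

include hdim in
/-- Cohomology of `Ω` on the fibres. -/
theorem fibre_omega (s : S) :
    (letI : (f.fiber s).Over (Spec (S.residueField s)) := ⟨f.fiberToSpecResidueField s⟩
     CohIII.fiberRank f (Omega.sheaf f) 0 s = Curv2.genus (S.residueField s) (f.fiber s)) ∧
      CohIII.fiberRank f (Omega.sheaf f) 1 s = 1 := by
  letI : (f.fiber s).Over (Spec (CommRingCat.of (S.residueField s))) := ⟨f.fiberToSpecResidueField s⟩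
  let q := f.fiber s ↘ Spec (CommRingCat.of (S.residueField s))
  haveI : IsProper q := MorphismProperty.pullback_snd f _ inferInstance
  haveI : Smooth q := MorphismProperty.pullback_snd f _ inferInstance
  haveI : GeometricallyConnected q := (inferInstance : GeometricallyConnected (f.fiberToSpecResidueField s))
  haveI := isIntegral_fibre f s
  obtain ⟨eΩ⟩ := S11777.nonempty_iso_omega_baseChange f (S.fromSpecResidueField s) (f.fiberι s) q
    (IsPullback.of_hasPullback _ _)
  have hd1 : topologicalKrullDim (f.fiber s) = 1 := hdim s
  have h0 := H29CurveDual.finrank_h0_structure_smooth (k := S.residueField s) (X := f.fiber s)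
  exact ⟨(H29CurveDual.finrank_h0_congr (k := S.residueField s) eΩ 0).trans
      (H29CurveDual.finrank_h1_structure (k := S.residueField s) hd1),
    ((H29CurveDual.finrank_h0_congr (k := S.residueField s) eΩ 1).trans
      (H29CurveDual.finrank_h1_omega (k := S.residueField s) hd1)).trans h0⟩

end Groth.Agent.H29RelOmega
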