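import Groth.Agent.LeadBC.GenBC.Apply

/-!
# Exactness of cohomology is stable under base change
-/

set_option autoImplicit false
set_option linter.style.haveILetI false
set_option linter.unusedSectionVars false

universe u

open CategoryTheory CategoryTheory.Limits AlgebraicGeometry Opposite TopologicalSpace

namespace Groth.Agent.H29RelOmega

open Groth.Agent.H10Coh Groth.Agent.LeadBC Groth.Agent.LeadBC.GenBC Groth.Agent.H06FlatCx

attribute [local instance 10000] hasSheafifyAb hasWeakSheafifyAb hasExtAb enoughInjAb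

variable {X S X' S' : Scheme.{u}} {f : X ⟶ S} {g : S' ⟶ S} {g' : X' ⟶ X} {f' : X' ⟶ S'}

/-- A model pulls back along a base change. -/
theorem exists_chart_bc [QuasiCompact f] [QuasiSeparated f] (h : IsPullback g' f' f g) {F : X.Modules}
    [F.IsQuasicoherent] {F' : X'.Modules} [F'.IsQuasicoherent] (i : (Scheme.Modules.pullback g').obj F ≅ F')
    {V : S.Opens} (hV : IsAffineOpen V) {ι : Type u} [Finite ι] {U : ι → (f ⁻¹ᵁ V).toScheme.Opens}
    (hU : letI := preOver f hV; GoodCover U)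
    (m : letI := preOver f hV; Model (A := Γ(S, V)) (f ⁻¹ᵁ V).toScheme (F.restrict (f ⁻¹ᵁ V).ι) U)
    {W : S'.Opens} (hW : IsAffineOpen W) (hle : W ≤ g ⁻¹ᵁ V) :
    letI := preOver f hV
    letI := preOver f' hW
    ∃ (U' : ι → (f' ⁻¹ᵁ W).toScheme.Opens), GoodCover U' ∧
      ∃ m' : Model (A := Γ(S', W)) (f' ⁻¹ᵁ W).toScheme (F'.restrict (f' ⁻¹ᵁ W).ι) U', m'.N = m.N ∧
        m'.P = CohIII.bcCx (g.appLE V W hle).hom m.P := by
  letI := preOver f hV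
  letI := preOver f' hW
  letI := (g.appLE V W hle).hom.toAlgebra
  haveI : QuasiCompact f' := MorphismProperty.of_isPullback h (inferInstance : QuasiCompact f)
  haveI : QuasiSeparated f' := MorphismProperty.of_isPullback h (inferInstance : QuasiSeparated f)
  have hsq := isPullback_qMap f hV h hW hle
  haveI := LeadFF.isAffineHom_fst hsq
  haveI : (F.restrict (f ⁻¹ᵁ V).ι).IsQuasicoherent := Scheme.Modules.isQuasicoherent_restrictFunctor _ F
  haveI : (F'.restrict (f' ⁻¹ᵁ W).ι).IsQuasicoherent := Scheme.Modules.isQuasicoherent_restrictFunctor _ F'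
  obtain ⟨Ψ, -⟩ := exists_rH_pullOn f h hle F
  obtain ⟨m', hN, hP⟩ := exists_model_bc (algebraMap Γ(S, V) Γ(S', W)) hsq hU m rfl
    (hbound_of_isAffineHom (qMap f h hle) m.bound) (F'.restrict (f' ⁻¹ᵁ W).ι)
    (Ψ ≪≫ (Scheme.Modules.restrictFunctor (f' ⁻¹ᵁ W).ι).mapIso i)
  exact ⟨preU (qMap f h hle) U, goodCover_preU (hsq := hsq) (hU := hU), m', hN, hP⟩

/-- Right exactness is stable under base change. -/
theorem epiOn_baseChange [IsProper f] [LocallyOfFinitePresentation f] (h : IsPullback g' f' f g) {F : X.Modules}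
    [F.IsQuasicoherent] (hfp : CohB1.IsFP F) (hfl : FlatMod.IsFlatOver f F) {F' : X'.Modules} [F'.IsQuasicoherent]
    (i : (Scheme.Modules.pullback g').obj F ≅ F') {V : S.Opens} {hV : IsAffineOpen V} {p : ℕ}
    (he : EpiOn f F hV p) {W : S'.Opens} (hW : IsAffineOpen W) (hle : W ≤ g ⁻¹ᵁ V) :
    EpiOn f' F' hW p := by
  letI := preOver f hV
  letI := preOver f' hW
  obtain ⟨ι, _, U, hU, ⟨m⟩⟩ := exists_chart f hV F hfp hfl
  obtain ⟨U', hU', m', hN, hP⟩ := exists_chart_bc h i hV hU m hW hle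
  refine (epiOn_iff f' F' hW hU' m' p).2 ?_
  haveI := flat_X m.P m.finite_free ((m.N : ℤ) - p - 1)
  rw [hN, hP]
  exact bcCx_preservesEpi_of m.P _ (down_prev _) (down_next _) ((epiOn_iff f F hV hU m p).1 he)

/-- Right exactness pulls back to an affine open lying over a model. -/
theorem epiOn_of_model {X₀ S₀ : Scheme.{u}} {f₀ : X₀ ⟶ S₀} [IsProper f₀] [LocallyOfFinitePresentation f₀]
    {F₀ : X₀.Modules} [F₀.IsQuasicoherent] (hfp : CohB1.IsFP F₀) (hfl : FlatMod.IsFlatOver f₀ F₀)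
    {F : X.Modules} [F.IsQuasicoherent] [QuasiCompact f] [QuasiSeparated f]
    {W : S.Opens} (hW : IsAffineOpen W) {v : (f ⁻¹ᵁ W).toScheme ⟶ X₀} {u : Spec Γ(S, W) ⟶ S₀}
    (h : letI := preOver f hW;
      IsPullback v ((f ⁻¹ᵁ W).toScheme ↘ Spec (CommRingCat.of Γ(S, W))) f₀ u)
    (i : (Scheme.Modules.pullback v).obj F₀ ≅ F.restrict (f ⁻¹ᵁ W).ι)
    {V₀ : S₀.Opens} {hV₀ : IsAffineOpen V₀} {p : ℕ} (hu : ∀ z, u z ∈ V₀) (he : EpiOn f₀ F₀ hV₀ p) :
    EpiOn f F hW p := by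
  letI := preOver f₀ hV₀
  letI := preOver f hW
  obtain ⟨ι, _, U, hU, ⟨m⟩⟩ := exists_chart f₀ hV₀ F₀ hfp hfl
  have hP := isPullback_preOver f₀ hV₀
  let u' : Spec Γ(S, W) ⟶ Spec Γ(S₀, V₀) := IsOpenImmersion.lift hV₀.fromSpec u (by
    rw [hV₀.range_fromSpec]; rintro _ ⟨z, rfl⟩; exact hu z)
  have hu' : u' ≫ hV₀.fromSpec = u := IsOpenImmersion.lift_fac _ _ _
  let q : (f ⁻¹ᵁ W).toScheme ⟶ (f₀ ⁻¹ᵁ V₀).toScheme :=
    hP.lift v (((f ⁻¹ᵁ W).toScheme ↘ Spec (CommRingCat.of Γ(S, W))) ≫ u') (by rw [Category.assoc, hu', h.w])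
  have hq : q ≫ (f₀ ⁻¹ᵁ V₀).ι = v := hP.lift_fst _ _ _
  obtain ⟨ρ, hρ⟩ := Spec.map_surjective u'
  letI := ρ.hom.toAlgebra
  have hsq : IsPullback q ((f ⁻¹ᵁ W).toScheme ↘ Spec (CommRingCat.of Γ(S, W)))
      ((f₀ ⁻¹ᵁ V₀).toScheme ↘ Spec (CommRingCat.of Γ(S₀, V₀)))
      (Spec.map (CommRingCat.ofHom (algebraMap Γ(S₀, V₀) Γ(S, W)))) := by
    show IsPullback q _ _ (Spec.map ρ)
    rw [hρ]
    refine IsPullback.of_right (h₁₂ := (f₀ ⁻¹ᵁ V₀).ι) (h₂₂ := hV₀.fromSpec) (v₁₃ := f₀) ?_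
      (hP.lift_snd _ _ _) hP
    rw [hq, hu']
    exact h
  haveI := LeadFF.isAffineHom_fst hsq
  haveI : (F₀.restrict (f₀ ⁻¹ᵁ V₀).ι).IsQuasicoherent := Scheme.Modules.isQuasicoherent_restrictFunctor _ F₀
  haveI : (F.restrict (f ⁻¹ᵁ W).ι).IsQuasicoherent := Scheme.Modules.isQuasicoherent_restrictFunctor _ F
  obtain ⟨m', hN, hP'⟩ := exists_model_bc (algebraMap Γ(S₀, V₀) Γ(S, W)) hsq hU m rfl
    (hbound_of_isAffineHom q m.bound) (F.restrict (f ⁻¹ᵁ W).ι)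
    ((Scheme.Modules.pullback q).mapIso ((Scheme.Modules.restrictFunctorIsoPullback (f₀ ⁻¹ᵁ V₀).ι).app F₀) ≪≫
      (Scheme.Modules.pullbackComp q (f₀ ⁻¹ᵁ V₀).ι).app F₀ ≪≫ (Scheme.Modules.pullbackCongr hq).app F₀ ≪≫ i)
  refine (epiOn_iff f F hW (goodCover_preU (hsq := hsq) (hU := hU)) m' p).2 ?_
  haveI := flat_X m.P m.finite_free ((m.N : ℤ) - p - 1)
  rw [hN, hP']
  exact bcCx_preservesEpi_of m.P _ (down_prev _) (down_next _) ((epiOn_iff f₀ F₀ hV₀ hU m p).1 he)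

end Groth.Agent.H29RelOmega
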