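import Groth.Agent.H29RelOmega.Push
import Groth.Agent.S0033
import Groth.Agent.S6487
import Groth.Agent.H12Pic.PicCurve.AbelInj
import Groth.Agent.H29RR.Points
import Groth.Agent.H16Derived.RDerLES.Exists
import Groth.Agent.H10Coh.TwistExact
import Groth.Agent.H28RR.LazMukEuler
import Groth.Agent.H17.ConormalSum.Basic

/-!
# The residue map along the diagonal trivialises `f^* R¹ f_* Ω`
-/

set_option autoImplicit false
set_option linter.style.haveILetI false
set_option linter.unusedSectionVars false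
set_option backward.isDefEq.respectTransparency.types false
set_option synthInstance.maxHeartbeats 400000
set_option maxHeartbeats 1000000

universe u

open CategoryTheory CategoryTheory.Limits AlgebraicGeometry Opposite

namespace Groth.Agent.H29RelOmega

open Groth.Agent.H25Theta (pb pT pC pI tI pO)

attribute [local instance 10000] H10Coh.hasSheafifyAb H10Coh.hasWeakSheafifyAb H10Coh.hasExtAb H10Coh.enoughInjAb

/-- An epimorphism of line bundles is an isomorphism. -/
theorem nonempty_iso_of_epi {X : Scheme.{u}} {P L : X.Modules} (hP : PicF.IsInvertible P)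
    (hL : FlatMod.IsFinLocFreeOfRank 1 L) (φ : P ⟶ L) [Epi φ] : Nonempty (P ≅ L) := by
  haveI : IsIso φ := H17.ConormalSum.isIso_of_epi φ fun x => by
    obtain ⟨h1, h2, h3⟩ := H17.ConormalSum.finrank_stalk' (X := X) (H22Alg.PB.rank_one_of_isInvertible hP) x
    exact ⟨1, ⟨h1, h2, h3⟩, hL⟩
  exact ⟨asIso φ⟩

section Twist

variable {Y T : Scheme.{u}} (π : Y ⟶ T) [IsProper π] [Smooth π] [GeometricallyConnected π]
  (hdim : ∀ t, topologicalKrullDim ↥(π.fiber t) = 1)

include hdim in
/-- A module with the Euler characteristic of `Ω` twisted up by a section has no first cohomology on the fibres. -/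
theorem subsingleton_fibre_addPoint (R : T ⟶ Y) (hR : R ≫ π = 𝟙 T) {L N : Y.Modules}
    (hL : PicF.IsInvertible L) (hN : PicF.IsInvertible N)
    (eN : CohB1.tensorMod N (ClSub.idealMod R.ker) ≅ Coh.structureModule Y) (t : T)
    (hχ : (CohIII.fiberRank π L 0 t : ℤ) - CohIII.fiberRank π L 1 t =
      (CohIII.fiberRank π (Omega.sheaf π) 0 t : ℤ) - CohIII.fiberRank π (Omega.sheaf π) 1 t) :
    Subsingleton (CohIII.fiberH π (CohB1.tensorMod L N) t 1) := by
  haveI := smoothRelDimOne π hdim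
  haveI := smoothOfRelativeDimension_isStableUnderBaseChange.{u} (n := 1)
  let K := T.residueField t
  letI : (π.fiber t).Over (Spec (CommRingCat.of K)) := ⟨π.fiberToSpecResidueField t⟩
  have hF : IsPullback (π.fiberι t) (π.fiber t ↘ Spec (CommRingCat.of K)) π (T.fromSpecResidueField t) :=
    IsPullback.of_hasPullback _ _
  let q := π.fiber t ↘ Spec (CommRingCat.of K)
  haveI : IsProper q := MorphismProperty.of_isPullback hF inferInstance
  haveI : Smooth q := MorphismProperty.of_isPullback hF inferInstance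
  haveI : SmoothOfRelativeDimension 1 q := MorphismProperty.of_isPullback hF inferInstance
  haveI : GeometricallyConnected q := MorphismProperty.of_isPullback hF inferInstance
  haveI := isIntegral_fibre π t
  haveI := H29RR.isNoetherian_of_proper (k := K) (X := π.fiber t)
  let τ : Spec (CommRingCat.of K) ⟶ π.fiber t := hF.lift (T.fromSpecResidueField t ≫ R) (𝟙 _)
    (by rw [Category.assoc, hR, Category.comp_id]; exact (Category.id_comp _).symm)
  obtain ⟨e⟩ := H12Pic.PicCurve.pullback_addPoint (π := π) R hR (L := L) eN hF τ (hF.lift_snd _ _ _)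
    (hF.lift_fst _ _ _)
  obtain ⟨hx, hk, hres⟩ := S6487.section_pt τ (hF.lift_snd _ _ _)
  rw [hk] at e
  have hI := H11Ample.isCoh_of_isInvertible (hk ▸ H29Blow.isInvertible_of_isEffCartierIdeal _
      (H12Pic.CurveFam.isEffCartierIdeal_section q τ (hF.lift_snd _ _ _)) :
    PicF.IsInvertible (ClSub.idealMod (H29RR.ptIdeal (τ (IsLocalRing.closedPoint K)))))
  let M := pb (π.fiberι t) (CohB1.tensorMod L N)
  have hM : PicF.IsInvertible M := H11Ample.isInvertible_pullback _ (H11Ample.isInvertible_tensor hL hN)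
  obtain ⟨-, -, hchi⟩ := H29RR.twist_point (k := K) hx hM hI
  obtain ⟨eΩ⟩ := S11777.nonempty_iso_omega_baseChange π (T.fromSpecResidueField t) (π.fiberι t) q hF
  rw [hres, H25Euler.euler_congr e] at hchi
  have hd1 : topologicalKrullDim (π.fiber t) ≤ 1 := (hdim t).le
  have r1 := H29RR.riemann_roch (k := K) hd1 (pb (π.fiberι t) L)
  have r2 := H29RR.riemann_roch (k := K) hd1 (pb (π.fiberι t) (Omega.sheaf π))
  rw [H29RR.deg_congr (k := K) eΩ] at r2
  have hχ' : (Module.finrank K (Coh.HH (π.fiber t) (pb (π.fiberι t) L) 0) : ℤ) -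
      Module.finrank K (Coh.HH (π.fiber t) (pb (π.fiberι t) L) 1) =
      (Module.finrank K (Coh.HH (π.fiber t) (pb (π.fiberι t) (Omega.sheaf π)) 0) : ℤ) -
      Module.finrank K (Coh.HH (π.fiber t) (pb (π.fiberι t) (Omega.sheaf π)) 1) := hχ
  have hdL : Curv2.deg K (π.fiber t) (pb (π.fiberι t) L) 1 = Curv2.deg K (π.fiber t) (Omega.sheaf q) 1 := by
    linarith
  simp only [H29RR.deg_def] at hdL
  refine H29CurveDual.subsingleton_h1_of_deg (k := K) (hdim t) hM ?_
  have hlt : Curv2.euler K (π.fiber t) (Omega.sheaf q) < Curv2.euler K (π.fiber t) M := by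
    rw [show Curv2.euler K (π.fiber t) M = _ from hchi]
    push_cast
    linarith [hdL]
  simp only [H29RR.deg_def]
  linarith [hlt]

end Twist

variable {X S : Scheme.{u}} (f : X ⟶ S) [IsProper f] [Smooth f] [GeometricallyConnected f]
  (hdim : ∀ s : S, topologicalKrullDim ↥(f.fiber s) = 1)

include hdim in
/-- The residue along the diagonal identifies `f^* R¹ f_* L` with `L ⊗ Ω⁻¹`, for `L` of canonical degree. -/
theorem nonempty_residue_iso [HasInjectiveResolutions X.Modules] {L Ω' : X.Modules} (hL : PicF.IsInvertible L)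
    (hΩ' : PicF.IsInvertible Ω') (eΩ' : CohB1.tensorMod Ω' (Omega.sheaf f) ≅ Coh.structureModule X)
    (hR₁ : PicF.IsInvertible ((Coh.Rpush f 1).obj L))
    (hχ : ∀ s, (CohIII.fiberRank f L 0 s : ℤ) - CohIII.fiberRank f L 1 s =
      (CohIII.fiberRank f (Omega.sheaf f) 0 s : ℤ) - CohIII.fiberRank f (Omega.sheaf f) 1 s) :
    Nonempty ((Scheme.Modules.pullback f).obj ((Coh.Rpush f 1).obj L) ≅ CohB1.tensorMod L Ω') := by
  let Y := pullback f f
  let p : Y ⟶ X := pullback.snd f f
  let q : Y ⟶ X := pullback.fst f f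
  have hsq : IsPullback q p f f := IsPullback.of_hasPullback f f
  haveI : IsProper p := MorphismProperty.of_isPullback hsq inferInstance
  haveI : Smooth p := MorphismProperty.of_isPullback hsq inferInstance
  haveI : GeometricallyConnected p := MorphismProperty.of_isPullback hsq inferInstance
  haveI := H10Coh.enoughInjMod Y
  have hdimp : ∀ t, topologicalKrullDim ↥(p.fiber t) = 1 := fun t =>
    (H8Props.FieldDim.dim_fiber_baseChange f hsq t).trans (hdim _)
  haveI := smoothRelDimOne p hdimp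
  let Δ : X ⟶ Y := pullback.diagonal f
  have hΔ : Δ ≫ p = 𝟙 X := pullback.diagonal_snd f
  let J := Δ.ker
  let I := ClSub.idealMod J
  have hI : PicF.IsInvertible I :=
    H29Blow.isInvertible_of_isEffCartierIdeal _ (H12Pic.CurveFam.isEffCartierIdeal_section p Δ hΔ)
  obtain ⟨N, hN, ⟨eN⟩⟩ := H11Sym.exists_inverse hI
  let ω := pb q L
  obtain ⟨eω⟩ := S11777.nonempty_iso_omega_baseChange f f q p hsq
  have hΩinv := H29CurveFamily.omega_invertible f hdim
  have hωinv : PicF.IsInvertible ω := H11Ample.isInvertible_pullback q hL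
  have hχp : ∀ t, (CohIII.fiberRank p ω 0 t : ℤ) - CohIII.fiberRank p ω 1 t =
      (CohIII.fiberRank p (Omega.sheaf p) 0 t : ℤ) - CohIII.fiberRank p (Omega.sheaf p) 1 t := fun t => by
    letI : (p.fiber t).Over (Spec (CommRingCat.of (X.residueField t))) := ⟨p.fiberToSpecResidueField t⟩
    have h : ∀ i, CohIII.fiberRank p (Omega.sheaf p) i t = CohIII.fiberRank f (Omega.sheaf f) i (f t) := fun i => by
      refine Eq.trans ?_ (H12Pic.PicCurve.fiberRank_pullback f hΩinv hsq i t)
      exact (H29RR.hhIso (k := X.residueField t) ((Scheme.Modules.pullback (p.fiberι t)).mapIso eω.symm) i).finrank_eq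
    rw [H12Pic.PicCurve.fiberRank_pullback f hL hsq, H12Pic.PicCurve.fiberRank_pullback f hL hsq, h, h]
    exact hχ (f t)
  let M := CohB1.tensorMod ω N
  have hM : PicF.IsInvertible M := H11Ample.isInvertible_tensor hωinv hN
  -- no first direct image after twisting up
  have hMlf := H23Para.isFinLocFree_of_isInvertible hM
  have hMfp : CohB1.IsFP M := H8Props.FinLocFree.isFP_of_isFinLocFree M hMlf
  haveI : M.IsQuasicoherent := H29Fitt.isQCoh_of_isFP M hMfp
  have hMfl : FlatMod.IsFlatOver p M := H10Coh.SheafHom.isFlatOver_of_isFinLocFree p M hMlf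
  have hzero : IsZero ((Coh.Rpush p 1).obj M) :=
    LeadBC.GenBC.isZero_of_isZero_restrict _ fun t => by
      obtain ⟨W, _, hW, -, -, hz, -⟩ := LeadBC.GenBC.exists_vanishing_nhd p M hMfp hMfl 1
        (subsingleton_fibre_addPoint p hdimp Δ hΔ hωinv hN eN t (hχp t))
      exact ⟨W, hW, hz⟩
  -- the sequence
  let Sq := H10Coh.Tw.seq (ShortComplex.mk (ClSub.idealModι J) (ClSub.toSubscheme J) (kernel.condition _)) hM
  have hSq : Sq.ShortExact := H10Coh.Tw.shortExact_seq (H28RR.LazMuk.idealSeq_shortExact J) hM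
  let e₁ : Sq.X₁ ≅ ω :=
    H10Coh.Tw.commIso I M ≪≫ H10Coh.Tw.assoc ω N I ≪≫ tI (Iso.refl ω) eN ≪≫ H10Coh.Tw.rightUnitIso ω
  have e₂ : Sq.X₂ ≅ M := H10Coh.Tw.leftUnitIso M
  -- the third term
  let i := J.subschemeι
  haveI : IsClosedImmersion (Δ ≫ p) := by rw [hΔ]; infer_instance
  haveI : IsClosedImmersion Δ := IsClosedImmersion.of_comp Δ p
  haveI hj : IsIso (i ≫ p) := by
    haveI : IsIso (Δ.toImage ≫ Δ.imageι ≫ p) := by
      rw [← Category.assoc, Scheme.Hom.toImage_imageι, hΔ]; infer_instance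
    exact IsIso.of_isIso_comp_left Δ.toImage (Δ.imageι ≫ p)
  have hij : (i ≫ p) ≫ Δ = i := by
    rw [← cancel_epi Δ.toImage]
    show Δ.toImage ≫ (Δ.imageι ≫ p) ≫ Δ = Δ.toImage ≫ Δ.imageι
    rw [← Category.assoc, ← Category.assoc, Scheme.Hom.toImage_imageι, hΔ, Category.id_comp]
  let eNI : CohB1.tensorMod (pb Δ N) (Omega.sheaf f) ≅ Coh.structureModule X :=
    (pT Δ N I).symm ≪≫ (Scheme.Modules.pullback Δ).mapIso eN ≪≫ pO Δ
  obtain ⟨eN'⟩ := H25Theta.cancel_right hΩinv ⟨eNI ≪≫ eΩ'.symm⟩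
  let eM : pb Δ M ≅ CohB1.tensorMod L Ω' :=
    pT Δ ω N ≪≫ tI (pC Δ q (pullback.diagonal_fst f) L ≪≫ pI _ rfl _) eN'
  let P := CohB1.tensorMod L Ω'
  have hP : PicF.IsInvertible P := H11Ample.isInvertible_tensor hL hΩ'
  let eM' : pb i M ≅ pb (i ≫ p) P :=
    (pC (i ≫ p) Δ hij M).symm ≪≫ (Scheme.Modules.pullback (i ≫ p)).mapIso eM
  haveI : IsIso (ClSub.unitToPush (i ≫ p)) :=
    LeadBC.GenBC.isIso_unitToPush_of_app _ fun U => inferInstance
  let e₃ : ((Scheme.Modules.pushforward p).rightDerived 0).obj Sq.X₃ ≅ P :=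
    (Scheme.Modules.pushforward p).rightDerivedZeroIsoSelf.app _ ≪≫
      (Scheme.Modules.pushforward p).mapIso
        (H28RR.LazMuk.projIso i (G := M) hMlf (Coh.structureModule J.subscheme) ≪≫
          (Scheme.Modules.pushforward i).mapIso (tI (Iso.refl _) eM')) ≪≫
      (Scheme.Modules.pushforwardComp i p).app _ ≪≫
      (H28RR.LazMuk.projIso (i ≫ p) (G := P) (H23Para.isFinLocFree_of_isInvertible hP) _).symm ≪≫
      tI (asIso (ClSub.unitToPush (i ≫ p))).symm (Iso.refl P) ≪≫ H10Coh.Tw.leftUnitIso P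
  -- the connecting map
  obtain ⟨D⟩ := H16Derived.RDerLES.nonempty_derivedLES (F := Scheme.Modules.pushforward p)
  haveI : Epi (D.δ Sq hSq 0 1 rfl) :=
    (D.exact₁ Sq hSq 0 1 rfl).epi_f ((hzero.of_iso ((Coh.Rpush p 1).mapIso e₂)).eq_of_tgt _ _)
  haveI : Coh.IsQCoh L := H29Fitt.isQCoh_of_isFP L
    (H8Props.FinLocFree.isFP_of_isFinLocFree L (H23Para.isFinLocFree_of_isInvertible hL))
  obtain ⟨eBC⟩ := S0033.result f f q p hsq L 1
  have hR : FlatMod.IsFinLocFreeOfRank 1 ((Coh.Rpush p 1).obj ω) :=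
    H22Alg.PB.rank_one_of_isInvertible (H11Tilde.isInvertible_of_iso eBC
      (H11Ample.isInvertible_pullback f hR₁))
  let φ : P ⟶ (Coh.Rpush p 1).obj ω :=
    e₃.inv ≫ D.δ Sq hSq 0 1 rfl ≫ (Coh.Rpush p 1).map e₁.hom
  obtain ⟨e⟩ := nonempty_iso_of_epi hP hR φ
  exact ⟨eBC ≪≫ e.symm⟩

include hdim in
/-- The residue along the diagonal trivialises the pullback of `R¹ f_* Ω`. -/
theorem nonempty_pullback_rpush_omega [HasInjectiveResolutions X.Modules] :
    Nonempty ((Scheme.Modules.pullback f).obj ((Coh.Rpush f 1).obj (Omega.sheaf f)) ≅ Coh.structureModule X) := by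
  have hΩ := H29CurveFamily.omega_invertible f hdim
  obtain ⟨Ω', hΩ', ⟨e⟩⟩ := H11Sym.exists_inverse hΩ
  obtain ⟨i⟩ := nonempty_residue_iso f hdim hΩ hΩ' e
    (H22Alg.PB.isInvertible_of_rank_one (rpush_omega f hdim).1) fun _ => rfl
  exact ⟨i ≪≫ H10Coh.Tw.commIso _ _ ≪≫ e⟩

end Groth.Agent.H29RelOmega
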