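import Groth.Agent.S3635
import Groth.Agent.H4Rel.CM
import Groth.Agent.H22Alg.KExists

/-!
# The module of differentials of a smooth family of curves is dualizing
-/

set_option autoImplicit false
set_option linter.style.haveILetI false
set_option linter.unusedSectionVars false
set_option backward.isDefEq.respectTransparency false
set_option synthInstance.maxHeartbeats 400000
set_option maxHeartbeats 1000000

universe u

open CategoryTheory CategoryTheory.Limits AlgebraicGeometry
open Groth.Agent.H16Derived

attribute [local instance] HasDerivedCategory.standard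

namespace Groth.Agent.H29RelOmega

attribute [local instance 10000] H10Coh.hasSheafifyAb H10Coh.hasWeakSheafifyAb H10Coh.hasExtAb H10Coh.enoughInjAb

/-- Over an affine Noetherian base `Ω` is the relative dualizing sheaf of a smooth family of curves. -/
theorem isDualizingSheaf_omega (A : Type u) [CommRing A] [IsNoetherianRing A] (Y : Scheme.{u})
    [Y.Over (Spec (CommRingCat.of A))] [IsProper (Y ↘ Spec (CommRingCat.of A))]
    [SmoothOfRelativeDimension 1 (Y ↘ Spec (CommRingCat.of A))]
    (hd : ∀ t, topologicalKrullDim ↥((Y ↘ Spec (CommRingCat.of A)).fiber t) ≤ 1) :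
    RelCanon.IsDualizingSheaf A Y 1 (Omega.sheaf (Y ↘ Spec (CommRingCat.of A))) := by
  let f := Y ↘ Spec (CommRingCat.of A)
  haveI : CompactSpace Y := QuasiCompact.compactSpace_of_compactSpace f
  haveI : QuasiSeparatedSpace Y := quasiSeparatedSpace_of_quasiSeparated f
  haveI := QCohD.hasRpush f
  obtain ⟨hf, a, ⟨adj⟩⟩ := H4Rel.exists_rightAdjoint f
  obtain ⟨O, hO⟩ := H4Rel.exists_unit_obj A
  obtain ⟨e⟩ := S3635.result _ Y 1 f hf a adj O hO (Omega.sheaf f) (H22Alg.KExists.isExtPow_one _)
  have h := H4Rel.isDualizingSheaf_rightAdjoint A Y adj O hO 1 (fun t => by simpa using hd t)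
  refine H4Rel.isDualizingSheaf_of_iso ?_ h
  exact (DerivedCategory.homologyFunctor Y.Modules _).mapIso (e ≪≫
      ((DerivedCategory.singleFunctors Y.Modules).shiftIso (1 : ℤ) (-1) 0 (by norm_num)).app (Omega.sheaf f)) ≪≫
    (DerivedCategory.singleFunctorCompHomologyFunctorIso Y.Modules (-1 : ℤ)).app _

end Groth.Agent.H29RelOmega
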