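import Groth.Agent.H29RelOmega.Duality
import Groth.Agent.H29RelOmega.Fibre
import Groth.Agent.H26Canon.Basic
import Groth.Agent.H22Alg.FittRank
import Groth.Agent.H29Fitt.Ideal
import Groth.Agent.LeadBC.GenBC.Apply

/-!
# Cohomology of the differentials commutes with base change over a Noetherian base
-/

set_option autoImplicit false
set_option linter.style.haveILetI false
set_option linter.unusedSectionVars false
set_option backward.isDefEq.respectTransparency.types false
set_option synthInstance.maxHeartbeats 400000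
set_option maxHeartbeats 1000000

universe u

open CategoryTheory CategoryTheory.Limits AlgebraicGeometry Opposite
open scoped TensorProduct

namespace Groth.Agent.H29RelOmega

open Groth.Agent.H10Coh Groth.Agent.LeadBC Groth.Agent.LeadBC.GenBC Groth.Agent.H06FlatCx

attribute [local instance 10000] hasSheafifyAb hasWeakSheafifyAb hasExtAb enoughInjAb

/-- Multiplication by a scalar on an invertible module vanishes only for scalars vanishing on the scheme. -/
theorem toGlobal_eq_zero_of_smulMod {A : Type u} [CommRing A] {Y : Scheme.{u}} [Y.Over (Spec (CommRingCat.of A))]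
    {L : Y.Modules} (hL : PicF.IsInvertible L) (a : A) (h : Formal.smulMod A L a = 0) :
    Coh.toGlobal (Y ↘ Spec (CommRingCat.of A)) a = 0 := by
  refine TopCat.Presheaf.section_ext Y.sheaf ⊤ _ _ fun y _ => ?_
  obtain ⟨U, e, hyU, he⟩ := H11Ample.exists_gen hL y
  let r : Γ(Y, ⊤) := Coh.toGlobal (Y ↘ Spec (CommRingCat.of A)) a
  have h1 : Y.presheaf.map (homOfLE (le_top : U ≤ ⊤)).op r • e = 0 :=
    (congrArg (fun φ : L ⟶ L => φ.app U e) h).trans rfl
  have h2 := congrArg (L.presheaf.germ U y hyU) h1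
  rw [map_zero] at h2
  erw [H17.AssPts.germ_smul', TopCat.Presheaf.germ_res_apply] at h2
  exact ((he y hyU).1 (h2.trans (zero_smul _ _).symm)).trans (map_zero _).symm

/-- The first cohomology of an invertible dualizing sheaf is flat once its fibres are lines. -/
theorem flat_HH_dualizing {A : Type u} [CommRing A] [IsNoetherianRing A] {Y : Scheme.{u}}
    [Y.Over (Spec (CommRingCat.of A))] [IsProper (Y ↘ Spec (CommRingCat.of A))] {ω : Y.Modules}
    (hω : RelCanon.IsDualizingSheaf A Y 1 ω) (hinv : PicF.IsInvertible ω)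
    (hinj : Function.Injective (Coh.toGlobal (Y ↘ Spec (CommRingCat.of A))))
    (hr : ∀ x : PrimeSpectrum A, fibDim (Coh.HH Y ω 1) x ≤ 1) : Module.Flat A (Coh.HH Y ω 1) := by
  haveI : CompactSpace Y := QuasiCompact.compactSpace_of_compactSpace (Y ↘ Spec (CommRingCat.of A))
  haveI : IsLocallyNoetherian Y := LocallyOfFiniteType.isLocallyNoetherian (Y ↘ Spec (CommRingCat.of A))
  haveI := H10Coh.finite_HH_proper A Y ω (H11Ample.isCoh_of_isInvertible hinv) 1
  obtain ⟨t, hq, ht⟩ := hω
  refine (H22Alg.FittRank.flat_of_fitting (Coh.HH Y ω 1) 1 hr fun k hk => ?_).1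
  obtain rfl : k = 0 := by omega
  refine le_bot_iff.1 fun a ha => ?_
  have hann := Module.mem_annihilator.1 (H29Fitt.ideal_zero_le_annihilator ha)
  refine (map_eq_zero_iff _ hinj).1 (toGlobal_eq_zero_of_smulMod hinv a ((ht ω hq).1 ?_))
  refine LinearMap.ext fun x => ?_
  show t (LeadFF.Hm (Formal.smulMod A ω a) 1 x) = t (LeadFF.Hm (0 : ω ⟶ ω) 1 x)
  rw [LeadFF.Hm_smulMod, hann x, map_zero, LeadFF.Hm_zero, map_zero]

variable {X S : Scheme.{u}} (f : X ⟶ S) [IsProper f] [Smooth f] [GeometricallyConnected f]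
  (hdim : ∀ s : S, topologicalKrullDim ↥(f.fiber s) = 1)

include hdim in
/-- Over a locally Noetherian base the cohomology of `Ω` commutes with base change in all degrees. -/
theorem exists_exact_omega_noetherian [IsLocallyNoetherian S] (s : S) :
    ∃ (W : S.Opens) (hW : IsAffineOpen W), s ∈ W ∧
      EpiOn f (Omega.sheaf f) hW 1 ∧ EpiOn f (Omega.sheaf f) hW 0 := by
  haveI := smoothRelDimOne f hdim
  have hinv := H29CurveFamily.omega_invertible f hdim
  have hlf := H23Para.isFinLocFree_of_isInvertible hinv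
  have hfp := H8Props.FinLocFree.isFP_of_isFinLocFree _ hlf
  haveI : (Omega.sheaf f).IsQuasicoherent := H29Fitt.isQCoh_of_isFP _ hfp
  have hfl := H10Coh.SheafHom.isFlatOver_of_isFinLocFree f _ hlf
  haveI := H10Coh.enoughInjMod X
  obtain ⟨V, hV, hs, -, hm2, -⟩ := exists_vanishing_nhd f (Omega.sheaf f) hfp hfl 2
    (subsingleton_fibre f hdim (Omega.sheaf f) s le_rfl)
  have he1 : EpiOn f (Omega.sheaf f) hV 1 := (monoOn_succ_iff f _ hV hfp hfl 1).1 hm2
  refine ⟨V, hV, hs, he1, (monoOn_succ_iff f _ hV hfp hfl 0).1 (monoOn_of_flat f _ hfp hfl hV he1 ?_)⟩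
  letI := preOver f hV
  let Y := (f ⁻¹ᵁ V).toScheme
  let q := Y ↘ Spec (CommRingCat.of Γ(S, V))
  have hP := isPullback_preOver f hV
  haveI : IsNoetherianRing Γ(S, V) := IsLocallyNoetherian.component_noetherian ⟨V, hV⟩
  haveI : IsProper q := MorphismProperty.of_isPullback hP inferInstance
  haveI : Smooth q := MorphismProperty.of_isPullback hP inferInstance
  haveI : GeometricallyConnected q := MorphismProperty.of_isPullback hP inferInstance
  have hdimq : ∀ t, topologicalKrullDim ↥(q.fiber t) = 1 := fun t =>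
    (H8Props.FieldDim.dim_fiber_baseChange f hP t).trans (hdim _)
  haveI := smoothRelDimOne q hdimq
  obtain ⟨eΩ⟩ := S11777.nonempty_iso_omega_baseChange f hV.fromSpec (f ⁻¹ᵁ V).ι q hP
  have e' : Omega.sheaf q ≅ (Omega.sheaf f).restrict (f ⁻¹ᵁ V).ι :=
    eΩ.symm ≪≫ ((Scheme.Modules.restrictFunctorIsoPullback (f ⁻¹ᵁ V).ι).app (Omega.sheaf f)).symm
  have hD : RelCanon.IsDualizingSheaf Γ(S, V) Y 1 ((Omega.sheaf f).restrict (f ⁻¹ᵁ V).ι) :=
    H4Rel.isDualizingSheaf_of_iso e' (isDualizingSheaf_omega Γ(S, V) Y fun t => (hdimq t).le)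
  obtain ⟨ι, _, U, hU, ⟨m⟩⟩ := exists_chart f hV (Omega.sheaf f) hfp hfl
  haveI : ((Omega.sheaf f).restrict (f ⁻¹ᵁ V).ι).IsQuasicoherent :=
    Scheme.Modules.isQuasicoherent_restrictFunctor _ (Omega.sheaf f)
  obtain ⟨e, he⟩ := exists_rpushEquiv f hV (Omega.sheaf f) 1
  let eM : H0 m.P ((m.N : ℤ) - (1 : ℕ) + 1) ((m.N : ℤ) - (1 : ℕ)) ((m.N : ℤ) - (1 : ℕ) - 1) ≃ₗ[Γ(S, V)]
      Coh.HH Y ((Omega.sheaf f).restrict (f ⁻¹ᵁ V).ι) 1 :=
    tSelfEquiv m.P (down_prev _) (down_next _) ≪≫ₗ Model.eA hU m 1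
  haveI := flat_X m.P m.finite_free ((m.N : ℤ) - (1 : ℕ) - 1)
  have hE := (epiOn_iff f (Omega.sheaf f) hV hU m 1).1 he1
  have hflat : Module.Flat Γ(S, V) (Coh.HH Y ((Omega.sheaf f).restrict (f ⁻¹ᵁ V).ι) 1) := by
    refine flat_HH_dualizing hD (H11Tilde.isInvertible_of_iso e' (H29CurveFamily.omega_invertible q hdimq)) ?_
      fun x => ?_
    · exact (H26Canon.bijective_app q ⊤).1.comp
        (ConcreteCategory.bijective_of_isIso (Scheme.ΓSpecIso (CommRingCat.of Γ(S, V))).inv).1
    · have hy : hV.fromSpec x ∈ V := hV.range_fromSpec.le ⟨x, rfl⟩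
      have hx : hV.primeIdealOf ⟨hV.fromSpec x, hy⟩ = x :=
        hV.fromSpec.isOpenEmbedding.injective (hV.fromSpec_primeIdealOf _)
      have h1 := (subsingleton_fiberH_iff f hV hU m hy 1).2
      rw [(fibre_omega f hdim _).2, hx, dRank_eq_fibDim_of_epi m.P (down_prev _) (down_next _)
        ((preservesEpi_iff_epiLift m.P (down_prev _) (down_next _)).1 hE), fibDim_congr _ eM] at h1
      exact h1.ge
  exact Module.Flat.of_linearEquiv ({ e with map_smul' := he } : _ ≃ₗ[Γ(S, V)] _).symm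

end Groth.Agent.H29RelOmega
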