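import Groth.Agent.H29RelOmega.Exact
import Groth.Agent.H29RelOmega.BaseChange
import Groth.Agent.H29RelOmega.Model

/-!
# Cohomology of the differentials of a family of smooth curves commutes with base change
-/

set_option autoImplicit false
set_option linter.style.haveILetI false
set_option linter.unusedSectionVars false
set_option backward.isDefEq.respectTransparency.types false
set_option synthInstance.maxHeartbeats 400000
set_option maxHeartbeats 1000000

universe u

open CategoryTheory CategoryTheory.Limits AlgebraicGeometry Opposite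

namespace Groth.Agent.H29RelOmega

open Groth.Agent.H10Coh Groth.Agent.LeadBC Groth.Agent.LeadBC.GenBC

attribute [local instance 10000] hasSheafifyAb hasWeakSheafifyAb hasExtAb enoughInjAb

variable {X S : Scheme.{u}} (f : X ⟶ S) [IsProper f] [Smooth f] [GeometricallyConnected f]
  (hdim : ∀ s : S, topologicalKrullDim ↥(f.fiber s) = 1)

include hdim in
theorem omega_facts : CohB1.IsFP (Omega.sheaf f) ∧ FlatMod.IsFlatOver f (Omega.sheaf f) ∧
    (Omega.sheaf f).IsQuasicoherent := by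
  have hlf := H23Para.isFinLocFree_of_isInvertible (H29CurveFamily.omega_invertible f hdim)
  have hfp := H8Props.FinLocFree.isFP_of_isFinLocFree _ hlf
  exact ⟨hfp, H10Coh.SheafHom.isFlatOver_of_isFinLocFree f _ hlf, H29Fitt.isQCoh_of_isFP _ hfp⟩

include hdim in
/-- The cohomology of `Ω` commutes with base change in all degrees. -/
theorem exists_exact_omega (s : S) : ∃ (W : S.Opens) (hW : IsAffineOpen W), s ∈ W ∧
    EpiOn f (Omega.sheaf f) hW 1 ∧ EpiOn f (Omega.sheaf f) hW 0 := by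
  obtain ⟨hfp, hfl, hq⟩ := omega_facts f hdim
  haveI := hq
  obtain ⟨V, hV, hs, -⟩ := exists_isAffineOpen_mem_and_subset (U := (⊤ : S.Opens)) (x := s) trivial
  letI := preOver f hV
  let q := (f ⁻¹ᵁ V).toScheme ↘ Spec (CommRingCat.of Γ(S, V))
  have hP := isPullback_preOver f hV
  haveI : IsProper q := MorphismProperty.of_isPullback hP inferInstance
  haveI : Smooth q := MorphismProperty.of_isPullback hP inferInstance
  haveI : GeometricallyConnected q := MorphismProperty.of_isPullback hP inferInstance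
  obtain ⟨A, X₀, f₀, v, hA, hsq, hp₀, hs₀, hc₀, hd₀, -⟩ := exists_curve_model (R := Γ(S, V)) q fun t =>
    (H8Props.FieldDim.dim_fiber_baseChange f hP t).trans (hdim _)
  haveI := hA
  haveI : IsNoetherianRing A := Algebra.FiniteType.isNoetherianRing ℤ _
  haveI := hp₀
  haveI := hs₀
  haveI := hc₀
  let u : Spec Γ(S, V) ⟶ Spec (CommRingCat.of A) := Spec.map (CommRingCat.ofHom A.val.toRingHom)
  let z : Spec Γ(S, V) := hV.primeIdealOf ⟨s, hs⟩
  obtain ⟨W₀, hW₀, hz, he₁, he₀⟩ := exists_exact_omega_noetherian f₀ hd₀ (u z)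
  obtain ⟨a, ha2, ha1⟩ := hV.exists_basicOpen_le (V := hV.fromSpec ''ᵁ (u ⁻¹ᵁ W₀))
    ⟨s, z, hz, hV.fromSpec_primeIdealOf _⟩ hs
  have hW := hV.basicOpen a
  letI := preOver f hW
  let W := S.basicOpen a
  let r : Γ(S, V) ⟶ Γ(S, W) := S.presheaf.map (homOfLE (S.basicOpen_le a)).op
  have hr : Spec.map r ≫ hV.fromSpec = hW.fromSpec := hV.map_fromSpec hW _
  let j : (f ⁻¹ᵁ W).toScheme ⟶ (f ⁻¹ᵁ V).toScheme := X.homOfLE (f.preimage_mono (S.basicOpen_le a))
  have hPW := isPullback_preOver f hW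
  have hj : IsPullback j ((f ⁻¹ᵁ W).toScheme ↘ Spec (CommRingCat.of Γ(S, W))) q (Spec.map r) := by
    refine IsPullback.of_right (h₁₂ := (f ⁻¹ᵁ V).ι) (h₂₂ := hV.fromSpec) (v₁₃ := f) ?_ ?_ hP
    · rw [hr, Scheme.homOfLE_ι]
      exact hPW
    · rw [← cancel_mono hV.fromSpec, Category.assoc, Category.assoc, ← hP.w, ← Category.assoc j,
        Scheme.homOfLE_ι, hr, hPW.w]
  have h := hj.paste_horiz hsq
  let qW := (f ⁻¹ᵁ W).toScheme ↘ Spec (CommRingCat.of Γ(S, W))
  haveI : IsProper qW := MorphismProperty.of_isPullback hPW inferInstance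
  haveI : Smooth qW := MorphismProperty.of_isPullback hPW inferInstance
  obtain ⟨e₁⟩ := S11777.nonempty_iso_omega_baseChange f₀ _ (j ≫ v) qW h
  obtain ⟨e₂⟩ := S11777.nonempty_iso_omega_baseChange f hW.fromSpec (f ⁻¹ᵁ W).ι qW hPW
  obtain ⟨hfp₀, hfl₀, hq₀⟩ := omega_facts f₀ hd₀
  haveI := hq₀
  have hu : ∀ t, (Spec.map r ≫ u) t ∈ W₀ := fun t => by
    have : hW.fromSpec t ∈ W := hW.range_fromSpec.le ⟨t, rfl⟩
    obtain ⟨t', ht', e⟩ := ha2 this
    rw [← hr, Scheme.Hom.comp_apply] at e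
    rw [Scheme.Hom.comp_apply, ← hV.fromSpec.isOpenEmbedding.injective e]
    exact ht'
  let i := e₁ ≪≫ e₂.symm ≪≫ ((Scheme.Modules.restrictFunctorIsoPullback (f ⁻¹ᵁ W).ι).app (Omega.sheaf f)).symm
  exact ⟨W, hW, ha1, epiOn_of_model hfp₀ hfl₀ hW h i hu he₁, epiOn_of_model hfp₀ hfl₀ hW h i hu he₀⟩

end Groth.Agent.H29RelOmega
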