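import Groth.Agent.H29RelOmega.Omega
import Groth.Agent.H29CurveFamily.RankExact
import Groth.Agent.LeadBC.GenBC.ZeroApply
import Groth.Agent.LeadBC.GenBC.Glob

/-!
# Direct images of the differentials of a family of smooth curves
-/

set_option autoImplicit false
set_option linter.style.haveILetI false
set_option linter.unusedSectionVars false
set_option backward.isDefEq.respectTransparency.types false
set_option maxHeartbeats 1000000

universe u

open CategoryTheory CategoryTheory.Limits AlgebraicGeometry Opposite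

namespace Groth.Agent.H29RelOmega

open Groth.Agent.H10Coh Groth.Agent.LeadBC Groth.Agent.LeadBC.GenBC

attribute [local instance 10000] hasSheafifyAb hasWeakSheafifyAb hasExtAb enoughInjAb

variable {X S : Scheme.{u}} (f : X ⟶ S) [IsProper f] [Smooth f] [GeometricallyConnected f]
  (hdim : ∀ s : S, topologicalKrullDim ↥(f.fiber s) = 1)

include hdim in
/-- `f_* Ω` is finite locally free and commutes with base change. -/
theorem push_omega : FlatMod.IsFinLocFree ((Coh.push f).obj (Omega.sheaf f)) ∧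
    ∀ ⦃X' S' : Scheme.{u}⦄ (g' : X' ⟶ X) (f' : X' ⟶ S') (g : S' ⟶ S) (h : IsPullback g' f' f g),
      IsIso (CohBC.bc0 f g f' g' h.w (Omega.sheaf f)) := by
  obtain ⟨hfp, hfl, hq⟩ := omega_facts f hdim
  haveI := hq
  refine ⟨GenBC.isFinLocFree_push f _ hfp hfl fun s => ?_, fun X' S' g' f' g h => ?_⟩
  · obtain ⟨W, hW, hs, -, he⟩ := exists_exact_omega f hdim s
    exact ⟨W, hW, hs, he⟩
  · have := isIso_bc_zero f (Omega.sheaf f) h hfp hfl fun z => by
      obtain ⟨W, hW, hs, -, he⟩ := exists_exact_omega f hdim (g z)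
      exact ⟨W, hW, hs, he⟩
    rwa [GenBC.τ₀_eq] at this

include hdim in
/-- `R¹ f_* Ω` is locally free of rank one and the higher direct images vanish. -/
theorem rpush_omega [HasInjectiveResolutions X.Modules] :
    FlatMod.IsFinLocFreeOfRank 1 ((Coh.Rpush f 1).obj (Omega.sheaf f)) ∧
      ∀ i : ℕ, 2 ≤ i → IsZero ((Coh.Rpush f i).obj (Omega.sheaf f)) := by
  obtain ⟨hfp, hfl, hq⟩ := omega_facts f hdim
  haveI := hq
  have hex : ∀ s : S, ∃ (W : S.Opens) (hW : IsAffineOpen W), s ∈ W ∧
      EpiOn f (Omega.sheaf f) hW 1 ∧ MonoOn f (Omega.sheaf f) hW 1 := fun s => by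
    obtain ⟨W, hW, hs, he, he0⟩ := exists_exact_omega f hdim s
    exact ⟨W, hW, hs, he, (monoOn_succ_iff f _ hW hfp hfl 0).2 he0⟩
  refine ⟨fun y => ?_, fun i hi => isZero_of_isZero_restrict _ fun y => ?_⟩
  · obtain ⟨U, n, hyU, ⟨e⟩⟩ := isFinLocFree_of_exact_all f _ hfp hfl 1 hex y
    refine ⟨U, hyU, ?_⟩
    suffices hn : n = 1 by subst hn; exact ⟨e⟩
    obtain ⟨W, hW, hyW, he, hm⟩ := hex y
    rw [H29CurveFamily.rank_of_exact f _ hfp hfl hyW he hm hyU e]
    exact (fibre_omega f hdim y).2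
  · obtain ⟨W, _, hyW, -, -, hz, -⟩ :=
      exists_vanishing_nhd f _ hfp hfl i (subsingleton_fibre f hdim (Omega.sheaf f) y hi)
    exact ⟨W, hyW, hz⟩

end Groth.Agent.H29RelOmega
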