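import Groth.Agent.H29RelOmega.Diagonal

/-!
# `R¹ f_* Ω` is trivial
-/

set_option autoImplicit false
set_option linter.style.haveILetI false
set_option linter.unusedSectionVars false
set_option backward.isDefEq.respectTransparency.types false
set_option maxHeartbeats 1000000

universe u

open CategoryTheory CategoryTheory.Limits AlgebraicGeometry Opposite

namespace Groth.Agent.H29RelOmega

open Groth.Agent.H25Theta (pb pT pC pI tI pO)

attribute [local instance 10000] H10Coh.hasSheafifyAb H10Coh.hasWeakSheafifyAb H10Coh.hasExtAb H10Coh.enoughInjAb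

variable {X S : Scheme.{u}} (f : X ⟶ S) [IsProper f] [Smooth f] [GeometricallyConnected f]
  (hdim : ∀ s : S, topologicalKrullDim ↥(f.fiber s) = 1)

theorem isIso_unitToPush_family : IsIso (ClSub.unitToPush f) :=
  LeadBC.GenBC.isIso_unitToPush_of_app _ fun U =>
    (ConcreteCategory.isIso_iff_bijective _).2 (H26Canon.bijective_app f U)

/-- A line bundle on the base is recovered from its pullback. -/
theorem nonempty_iso_of_pullback_iso {L L' : S.Modules} (hL : FlatMod.IsFinLocFree L)
    (hL' : FlatMod.IsFinLocFree L')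
    (e : (Scheme.Modules.pullback f).obj L ≅ (Scheme.Modules.pullback f).obj L') : Nonempty (L ≅ L') := by
  haveI := isIso_unitToPush_family f
  let u := asIso (ClSub.unitToPush f)
  exact ⟨(H10Coh.Tw.leftUnitIso L).symm ≪≫ tI u (Iso.refl L) ≪≫
    H28RR.LazMuk.projIso f hL (Coh.structureModule X) ≪≫
      (Coh.push f).mapIso (tI (Iso.refl _) e) ≪≫
        (H28RR.LazMuk.projIso f hL' (Coh.structureModule X)).symm ≪≫ tI u.symm (Iso.refl L') ≪≫
          H10Coh.Tw.leftUnitIso L'⟩

include hdim in
/-- `R¹ f_* Ω ≅ O_S`. -/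
theorem nonempty_rpush_omega [HasInjectiveResolutions X.Modules] :
    Nonempty ((Coh.Rpush f 1).obj (Omega.sheaf f) ≅ Coh.structureModule S) := by
  obtain ⟨e⟩ := nonempty_pullback_rpush_omega f hdim
  exact nonempty_iso_of_pullback_iso f
    (H22Alg.KModel.finLocFree_of_rank (rpush_omega f hdim).1)
    (H23Para.isFinLocFree_of_isInvertible H11Ample.isInvertible_structureModule) (e ≪≫ (pO f).symm)

include hdim in
/-- `f_* Ω` is locally free of rank the genus. -/
theorem push_omega_rank (g : ℕ)
    (hgen : ∀ s : S, letI : (f.fiber s).Over (Spec (S.residueField s)) := ⟨f.fiberToSpecResidueField s⟩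
      Curv2.genus (S.residueField s) (f.fiber s) = g) :
    FlatMod.IsFinLocFreeOfRank g ((Coh.push f).obj (Omega.sheaf f)) := fun s => by
  obtain ⟨hfree, hbc⟩ := push_omega f hdim
  haveI : (Omega.sheaf f).IsQuasicoherent := (omega_facts f hdim).2.2
  obtain ⟨U, hsU, hU⟩ := H29CurveFamily.push_rank_nhd f hfree s
    (hbc (f.fiberι s) (f.fiberToSpecResidueField s) (S.fromSpecResidueField s) (IsPullback.of_hasPullback _ _))
  rw [(fibre_omega f hdim s).1, hgen s] at hU
  exact ⟨U, hsU, hU⟩

end Groth.Agent.H29RelOmega
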